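import Groth.Agent.Curves1.PolDesc.Pol
import Groth.Agent.CurveDiv.FlatH0
import Groth.Agent.Pi1Desc.Saturate
import Groth.Agent.Ega2Proj.AmpleBasic
import Groth.Agent.PicAux.QCoh
import Mathlib.RingTheory.Flat.Basic

/-!
# Invariant sections of a polarisation under a descent datum
-/

universe u

set_option autoImplicit false
set_option backward.isDefEq.respectTransparency.types false

open CategoryTheory Limits AlgebraicGeometry Opposite TopologicalSpace
open scoped TensorProduct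

noncomputable section

namespace Groth.Curves1.PolDesc

open Groth.PropsBasic.Ample (gloc gloc_map gloc_pullSec)
open Groth.CohBase.FlatBC (secMod)
open Groth.QCohMod (sectionsAlg)
open Groth.PicAux (pullSec)

/-- Elements of a comodule over a flat algebra lie in the span of the invariant ones. -/
theorem exists_invariant_preimage {A B M : Type u} [CommRing A] [CommRing B] [Algebra A B]
    [Module.Flat A B] [AddCommGroup M] [Module A M] (Δ : M →ₗ[A] B ⊗[A] M)
    (hco : ∀ s, Δ.lTensor B (Δ s) = (TensorProduct.mk A B M 1).lTensor B (Δ s)) (s : M) :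
    Δ s ∈ Set.range ((LinearMap.ker (Δ - TensorProduct.mk A B M 1)).subtype.lTensor B) := by
  have h : (Δ - TensorProduct.mk A B M 1).lTensor B (Δ s) = 0 := by
    rw [LinearMap.lTensor_sub, LinearMap.sub_apply, hco, sub_self]
  exact (Module.Flat.lTensor_exact B (LinearMap.exact_subtype_ker_map _) (Δ s)).1 h

variable {P : MorphismProperty Scheme.{u}} (A : Pol P)
variable {W Q W' Q' W'' Q'' : Scheme.{u}}

section Global

variable {k : W' ⟶ W} {π : W ⟶ Q} {π' : W' ⟶ Q'}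

/-- The comparison on global sections. -/
def gmap (hπ : P π) (hπ' : P π') (hk : Cart k π' π) :
    Γ(A.mod π hπ, (⊤ : W.Opens)) →+ Γ(A.mod π' hπ', (⊤ : W'.Opens)) :=
  secMap k (A.map hπ hπ' hk) ⊤

theorem gmap_smul (hπ : P π) (hπ' : P π') (hk : Cart k π' π) (r : Γ(W, ⊤))
    (x : Γ(A.mod π hπ, (⊤ : W.Opens))) :
    gmap A hπ hπ' hk (r • x) = k.appTop r • gmap A hπ hπ' hk x :=
  secMap_smul k _ ⊤ r x

theorem gmap_gmap {k' : W'' ⟶ W'} {π'' : W'' ⟶ Q''} {k'' : W'' ⟶ W} (e : k' ≫ k = k'')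
    (hπ : P π) (hπ' : P π') (hπ'' : P π'') (hk : Cart k π' π) (hk' : Cart k' π'' π')
    (hk'' : Cart k'' π'' π) (x : Γ(A.mod π hπ, (⊤ : W.Opens))) :
    gmap A hπ' hπ'' hk' (gmap A hπ hπ' hk x) = gmap A hπ hπ'' hk'' x := by
  subst e
  exact A.map_comp hπ hπ' hπ'' hk hk' hk'' ⊤ x

theorem gmap_id {k : W ⟶ W} (e : k = 𝟙 W) (hπ : P π) (hk : Cart k π π)
    (x : Γ(A.mod π hπ, (⊤ : W.Opens))) : gmap A hπ hπ hk x = x := by
  subst e
  exact A.map_id hπ hk ⊤ x

theorem gloc_gmap (hπ : P π) (hπ' : P π') (hk : Cart k π' π) (hL : PicF.IsInvertible (A.mod π hπ))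
    (x : Γ(A.mod π hπ, (⊤ : W.Opens))) : gloc (gmap A hπ hπ' hk x) = k ⁻¹ᵁ gloc x := by
  haveI := A.isIso_map hπ hπ' hk
  exact (gloc_map (A.map hπ hπ' hk) (pullSec k (A.mod π hπ) x)).trans (gloc_pullSec k hL x)

theorem isInvertible_mod' (hπ : P π) (hπ' : P π') (hk : Cart k π' π)
    (hL : PicF.IsInvertible (A.mod π hπ)) : PicF.IsInvertible (A.mod π' hπ') := by
  haveI := A.isIso_map hπ hπ' hk
  exact Groth.PicAux.isInvertible_of_iso (Groth.PicAux.isInvertible_pullback k hL)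
    (asIso (A.map hπ hπ' hk))

/-- Global sections of a module, over the functions of the base. -/
abbrev secA {S : Scheme.{u}} (str : W ⟶ S) (M : W.Modules) : ModuleCat.{u} Γ(S, ⊤) :=
  secMod str M (le_refl (str ⁻¹ᵁ ⊤))

/-- Flat base change of sections of a polarisation. -/
theorem exists_bc {X S : Scheme.{u}} [IsAffine S] [IsAffine X] (p : X ⟶ S) [Flat p] (str : W ⟶ S)
    [QuasiCompact str] [QuasiSeparated str] {π₁ : pullback str p ⟶ Q'} (hπ : P π) (hπ₁ : P π₁)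
    (hL : PicF.IsInvertible (A.mod π hπ)) (hk : Cart (pullback.fst str p) π₁ π) :
    letI := sectionsAlg p (show (⊤ : X.Opens) ≤ p ⁻¹ᵁ (⊤ : S.Opens) from le_rfl)
    ∃ Φ : Γ(X, ⊤) ⊗[Γ(S, ⊤)] secA str (A.mod π hπ) →+
        Γ(A.mod π₁ hπ₁, (⊤ : (pullback str p).Opens)),
      Function.Bijective Φ ∧ ∀ (b : Γ(X, ⊤)) (m : Γ(A.mod π hπ, (⊤ : W.Opens))),
        Φ (b ⊗ₜ (show secA str (A.mod π hπ) from m)) =
          (pullback.snd str p).appTop b • gmap A hπ hπ₁ hk m := by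
  letI := sectionsAlg p (show (⊤ : X.Opens) ≤ p ⁻¹ᵁ (⊤ : S.Opens) from le_rfl)
  haveI := Groth.PicAux.isQCoh_of_isInvertible hL
  haveI := A.isIso_map hπ hπ₁ hk
  obtain ⟨Φ, hΦ⟩ := Groth.CurveDiv.FlatH0.exists_baseChange_equiv
    (IsPullback.of_hasPullback str p) (A.mod π hπ) (isAffineOpen_top S) (isAffineOpen_top X)
    (show (⊤ : X.Opens) ≤ p ⁻¹ᵁ (⊤ : S.Opens) from le_rfl) (le_refl ((pullback.snd str p) ⁻¹ᵁ (⊤ : X.Opens)))
  refine ⟨((A.map hπ hπ₁ hk).app (⊤ : (pullback str p).Opens)).hom.comp Φ.toAddMonoidHom,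
    (ConcreteCategory.bijective_of_isIso ((A.map hπ hπ₁ hk).app ⊤)).comp Φ.bijective,
    fun b m => ?_⟩
  refine (congrArg ((A.map hπ hπ₁ hk).app (⊤ : (pullback str p).Opens)) (hΦ b m)).trans ?_
  refine ((A.map hπ hπ₁ hk).app_smul _ _).trans ?_
  congr 1
  exact congrArg _ (Groth.QCohMod.res_self _ _)

end Global

section Span

variable {V : Scheme.{u}} {L : V.Modules} {v : V}

/-- Failing to generate at a point is preserved by linear combinations. -/
theorem not_mem_gloc_add (hL : PicF.IsInvertible L) {x y : Γ(L, (⊤ : V.Opens))} (hx : v ∉ gloc x)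
    (hy : v ∉ gloc y) (a b : Γ(V, ⊤)) : v ∉ gloc (a • x + b • y) := by
  obtain ⟨U, e, -, hcov, he⟩ := Groth.PicAux.exists_gen_cover hL
  obtain ⟨c, hc⟩ := (he v).exists_coeff le_rfl (Groth.PicAux.res L le_top x)
  obtain ⟨d, hd⟩ := (he v).exists_coeff le_rfl (Groth.PicAux.res L le_top y)
  rw [Groth.PicAux.res_self] at hc hd
  rw [Groth.Ega2Proj.mem_gloc_iff (he v) hc (hcov v)] at hx
  rw [Groth.Ega2Proj.mem_gloc_iff (he v) hd (hcov v)] at hy
  have h : Groth.PicAux.res L le_top (a • x + b • y) =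
      (Groth.PicAux.resX V le_top a * c + Groth.PicAux.resX V le_top b * d) • e v := by
    rw [Groth.PicAux.res_add, Groth.PicAux.res_smul, Groth.PicAux.res_smul, hc, hd, add_smul,
      mul_smul, mul_smul]
  rw [Groth.Ega2Proj.mem_gloc_iff (he v) h (hcov v), map_add, map_mul, map_mul]
  exact IsLocalRing.nonunits_add (fun hu => hx (isUnit_of_mul_isUnit_right hu))
    (fun hu => hy (isUnit_of_mul_isUnit_right hu))

end Span

section Invariant

open Groth.Pi1Desc (Act)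

variable {V X S : Scheme.{u}} {h : V ⟶ X} {p : X ⟶ S}

/-- A section generating at a point can be replaced by an invariant one. -/
theorem exists_invariant_section [IsAffine X] [IsAffine S] [Flat p] [QuasiCompact h]
    [QuasiSeparated h] [P.IsStableUnderBaseChange] (α : Act h p) (ph : P h)
    (hL : PicF.IsInvertible (A.mod h ph)) (t : Γ(A.mod h ph, (⊤ : V.Opens))) {v : V}
    (hv : v ∈ gloc t) :
    ∃ s : Γ(A.mod h ph, (⊤ : V.Opens)), v ∈ gloc s ∧ α.Stable (gloc s) := by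
  classical
  letI := sectionsAlg p (show (⊤ : X.Opens) ≤ p ⁻¹ᵁ (⊤ : S.Opens) from le_rfl)
  haveI : Module.Flat Γ(S, ⊤) Γ(X, ⊤) := by
    have h1 := (HasRingHomProperty.iff_of_isAffine (P := @Flat) (f := p)).1 inferInstance
    have e : p.appLE ⊤ ⊤ le_rfl = p.appTop := Scheme.Hom.appLE_eq_app (f := p) (U := ⊤)
    change (p.appLE ⊤ ⊤ le_rfl).hom.Flat
    rw [e]
    exact h1
  -- the relation and its base
  let d₁ : pullback (h ≫ p) p ⟶ V := pullback.fst (h ≫ p) p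
  let d₂ : pullback (h ≫ p) p ⟶ X := pullback.snd (h ≫ p) p
  let σ : pullback (h ≫ p) p ⟶ V := α.act d₁ d₂ pullback.condition
  have hσh : σ ≫ h = d₂ := α.act_hom _ _ _
  let πR : pullback (h ≫ p) p ⟶ pullback p p :=
    pullback.lift (d₁ ≫ h) d₂ ((Category.assoc _ _ _).trans pullback.condition)
  have hπ₁ : πR ≫ pullback.fst p p = d₁ ≫ h := pullback.lift_fst _ _ _
  have hπ₂ : πR ≫ pullback.snd p p = d₂ := pullback.lift_snd _ _ _
  have sq₁ : IsPullback d₁ πR h (pullback.fst p p) := by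
    refine IsPullback.of_bot ?_ hπ₁.symm (IsPullback.of_hasPullback p p)
    rw [hπ₂]
    exact IsPullback.of_hasPullback (h ≫ p) p
  haveI : IsIso α.inv := ⟨α.inv, α.inv_inv, α.inv_inv⟩
  have sqσ : IsPullback σ πR h (pullback.snd p p) := by
    have hinv₁ : α.inv ≫ d₁ = σ := α.inv_d₁
    have hsw : α.inv ≫ πR = πR ≫ (pullbackSymmetry p p).hom := by
      apply pullback.hom_ext
      · rw [Category.assoc, hπ₁, Category.assoc, pullbackSymmetry_hom_comp_fst, hπ₂,
          reassoc_of% hinv₁, hσh]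
      · rw [Category.assoc, hπ₂, Category.assoc, pullbackSymmetry_hom_comp_snd, hπ₁]
        exact pullback.lift_snd _ _ _
    have := (IsPullback.of_horiz_isIso ⟨hsw⟩).paste_horiz sq₁
    rwa [hinv₁, pullbackSymmetry_hom_comp_fst] at this
  have pR : P πR := P.of_isPullback sq₁ ph
  -- the triple product
  let f₂ : pullback (d₁ ≫ h ≫ p) p ⟶ pullback (h ≫ p) p := pullback.fst (d₁ ≫ h ≫ p) p
  let s₂ : pullback (d₁ ≫ h ≫ p) p ⟶ X := pullback.snd (d₁ ≫ h ≫ p) p
  have eY : f₂ ≫ d₁ ≫ h ≫ p = s₂ ≫ p := pullback.condition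
  let πR₂ : pullback (d₁ ≫ h ≫ p) p ⟶ pullback (pullback.fst p p ≫ p) p :=
    pullback.map _ _ _ _ πR (𝟙 X) (𝟙 S) (by rw [Category.comp_id, reassoc_of% hπ₁])
      (by rw [Category.comp_id, Category.id_comp])
  have hr₁ : πR₂ ≫ pullback.fst (pullback.fst p p ≫ p) p = f₂ ≫ πR := pullback.lift_fst _ _ _
  have hr₂ : πR₂ ≫ pullback.snd (pullback.fst p p ≫ p) p = s₂ :=
    (pullback.lift_snd _ _ _).trans (Category.comp_id _)
  have sqf : IsPullback f₂ πR₂ πR (pullback.fst (pullback.fst p p ≫ p) p) := by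
    refine IsPullback.of_bot ?_ hr₁.symm (IsPullback.of_hasPullback (pullback.fst p p ≫ p) p)
    rw [hr₂, reassoc_of% hπ₁]
    exact IsPullback.of_hasPullback (d₁ ≫ h ≫ p) p
  have pR₂ : P πR₂ := P.of_isPullback sqf pR
  let M₂ : pullback (d₁ ≫ h ≫ p) p ⟶ pullback (h ≫ p) p :=
    pullback.lift (f₂ ≫ d₁) s₂ ((Category.assoc _ _ _).trans eY)
  let M₁ : pullback (d₁ ≫ h ≫ p) p ⟶ pullback (h ≫ p) p :=
    pullback.lift (f₂ ≫ σ) s₂ (by
      rw [Category.assoc, reassoc_of% hσh, ← eY]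
      exact congrArg (f₂ ≫ ·) pullback.condition.symm)
  have hM₂1 : M₂ ≫ d₁ = f₂ ≫ d₁ := pullback.lift_fst _ _ _
  have hM₁1 : M₁ ≫ d₁ = f₂ ≫ σ := pullback.lift_fst _ _ _
  have hM₂2 : M₂ ≫ d₂ = s₂ := pullback.lift_snd _ _ _
  have hM₁2 : M₁ ≫ d₂ = s₂ := pullback.lift_snd _ _ _
  have hMσ : M₁ ≫ σ = M₂ ≫ σ := by
    simp only [σ, α.comp_act]
    refine (α.congr (hM₁1.trans ?_) hM₁2 _ ?_).trans ((α.act_act (f₂ ≫ d₁) (f₂ ≫ d₂) s₂ ?_ ?_ ?_).trans
      (α.congr hM₂1.symm hM₂2.symm _ _))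
    · exact α.comp_act f₂ d₁ d₂ pullback.condition
    · rw [α.act_hom_assoc, ← eY, Category.assoc]
      exact congrArg (f₂ ≫ ·) pullback.condition.symm
    · exact (Category.assoc _ _ _).trans eY
    · rw [α.act_hom_assoc, ← eY, Category.assoc]
      exact congrArg (f₂ ≫ ·) pullback.condition.symm
  have cart₂ : Cart M₂ πR₂ πR := by
    refine ⟨pullback.lift (pullback.fst _ _ ≫ pullback.fst p p) (pullback.snd _ _)
      ((Category.assoc _ _ _).trans pullback.condition), IsPullback.of_right ?_ ?_ sq₁⟩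
    · rw [hM₂1, pullback.lift_fst]
      exact sqf.paste_horiz sq₁
    · apply pullback.hom_ext
      · rw [Category.assoc, hπ₁, reassoc_of% hM₂1, Category.assoc, pullback.lift_fst,
          reassoc_of% hr₁, hπ₁]
      · rw [Category.assoc, hπ₂, hM₂2, Category.assoc, pullback.lift_snd, hr₂]
  have cart₁ : Cart M₁ πR₂ πR := by
    refine ⟨pullback.lift (pullback.fst _ _ ≫ pullback.snd p p) (pullback.snd _ _)
      (by rw [Category.assoc, ← pullback.condition]; exact pullback.condition),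
      IsPullback.of_right ?_ ?_ sq₁⟩
    · rw [hM₁1, pullback.lift_fst]
      exact sqf.paste_horiz sqσ
    · apply pullback.hom_ext
      · rw [Category.assoc, hπ₁, reassoc_of% hM₁1, hσh, Category.assoc, pullback.lift_fst,
          reassoc_of% hr₁, hπ₂]
      · rw [Category.assoc, hπ₂, hM₁2, Category.assoc, pullback.lift_snd, hr₂]
  let E : V ⟶ pullback (h ≫ p) p := pullback.lift (𝟙 V) h (Category.id_comp _)
  have hE₁ : E ≫ d₁ = 𝟙 V := pullback.lift_fst _ _ _
  have hE₂ : E ≫ d₂ = h := pullback.lift_snd _ _ _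
  have hEσ : E ≫ σ = 𝟙 V := by
    rw [α.comp_act]
    exact (α.congr hE₁ hE₂ _ (Category.id_comp _)).trans (α.act_self _ _ _ (Category.id_comp _))
  have cartE : Cart E h πR := by
    refine ⟨pullback.lift (𝟙 X) (𝟙 X) rfl, IsPullback.of_right ?_ ?_ sq₁⟩
    · rw [hE₁, pullback.lift_fst]
      exact IsPullback.of_id_fst
    · apply pullback.hom_ext
      · rw [Category.assoc, hπ₁, reassoc_of% hE₁, Category.assoc, pullback.lift_fst, Category.comp_id]
      · rw [Category.assoc, hπ₂, hE₂, Category.assoc, pullback.lift_snd, Category.comp_id]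
  have c₁ : Cart d₁ πR h := ⟨_, sq₁⟩
  have cσ : Cart σ πR h := ⟨_, sqσ⟩
  have cf : Cart f₂ πR₂ πR := ⟨_, sqf⟩
  let g₁ := gmap A ph pR c₁
  let gσ := gmap A ph pR cσ
  let gf := gmap A pR pR₂ cf
  let m₁ := gmap A pR pR₂ cart₁
  let m₂ := gmap A pR pR₂ cart₂
  let gE := gmap A pR ph cartE
  -- base change
  haveI : QuasiCompact d₁ := MorphismProperty.pullback_fst _ _ (inferInstance : QuasiCompact p)
  haveI : QuasiSeparated d₁ := MorphismProperty.pullback_fst _ _ (inferInstance : QuasiSeparated p)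
  have hL' := isInvertible_mod' A ph pR c₁ hL
  obtain ⟨κ, hκb, hκ⟩ := exists_bc A p (h ≫ p) (π₁ := πR) ph pR hL c₁
  obtain ⟨κ', hκb', hκ'⟩ := exists_bc A p (d₁ ≫ h ≫ p) (π₁ := πR₂) pR pR₂ hL' cf
  let M : ModuleCat.{u} Γ(S, ⊤) := secA (h ≫ p) (A.mod h ph)
  let M' : ModuleCat.{u} Γ(S, ⊤) := secA (d₁ ≫ h ≫ p) (A.mod πR pR)
  have hd : d₁ ≫ h ≫ p = d₂ ≫ p := pullback.condition
  have appd : ∀ r, (d₁ ≫ h ≫ p).appTop r = d₂.appTop (p.appTop r) := fun r => by
    rw [hd]; rfl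
  have smul_def : ∀ (r : Γ(S, ⊤)) (x : M),
      (show Γ(A.mod h ph, (⊤ : V.Opens)) from r • x) =
        (h ≫ p).appTop r • (show Γ(A.mod h ph, (⊤ : V.Opens)) from x) := fun r x =>
    congrArg (fun c : Γ(S, ⊤) ⟶ Γ(V, ⊤) => c r • (show Γ(A.mod h ph, (⊤ : V.Opens)) from x))
      (Scheme.Hom.appLE_eq_app (f := h ≫ p) (U := ⊤))
  have smul_def' : ∀ (r : Γ(S, ⊤)) (x : M'),
      (show Γ(A.mod πR pR, (⊤ : (pullback (h ≫ p) p).Opens)) from r • x) =
        (d₁ ≫ h ≫ p).appTop r •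
          (show Γ(A.mod πR pR, (⊤ : (pullback (h ≫ p) p).Opens)) from x) := fun r x =>
    congrArg (fun c : Γ(S, ⊤) ⟶ Γ(pullback (h ≫ p) p, ⊤) =>
        c r • (show Γ(A.mod πR pR, (⊤ : (pullback (h ≫ p) p).Opens)) from x))
      (Scheme.Hom.appLE_eq_app (f := d₁ ≫ h ≫ p) (U := ⊤))
  have alg_def : ∀ (r : Γ(S, ⊤)) (b : Γ(X, ⊤)), r • b = p.appTop r * b := fun r b =>
    (Algebra.smul_def r b).trans
      (congrArg (fun c : Γ(S, ⊤) ⟶ Γ(X, ⊤) => c r * b) (Scheme.Hom.appLE_eq_app (f := p) (U := ⊤)))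
  let κl : Γ(X, ⊤) ⊗[Γ(S, ⊤)] M →ₗ[Γ(S, ⊤)] M' :=
    { toFun := fun z => (show M' from κ z)
      map_add' := fun a b => map_add κ a b
      map_smul' := fun r z => by
        refine Eq.trans ?_ (smul_def' r (show M' from κ z)).symm
        change (κ (r • z) : Γ(A.mod πR pR, (⊤ : (pullback (h ≫ p) p).Opens))) =
          (d₁ ≫ h ≫ p).appTop r • κ z
        induction z using TensorProduct.induction_on with
        | zero => rw [smul_zero, map_zero, smul_zero]
        | add a b ha hb => rw [smul_add, map_add, ha, hb, map_add, smul_add]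
        | tmul b m =>
          rw [TensorProduct.smul_tmul', alg_def, hκ, hκ, map_mul, mul_smul, appd] }
  let κe : Γ(X, ⊤) ⊗[Γ(S, ⊤)] M ≃ₗ[Γ(S, ⊤)] M' := LinearEquiv.ofBijective κl hκb
  let σl : M →ₗ[Γ(S, ⊤)] M' :=
    { toFun := fun x => (show M' from gσ x)
      map_add' := fun a b => map_add gσ a b
      map_smul' := fun r x => by
        refine Eq.trans ?_ (smul_def' r (show M' from gσ x)).symm
        refine (congrArg gσ (smul_def r x)).trans ((gmap_smul A ph pR cσ _ _).trans ?_)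
        rw [appd]
        congr 1
        rw [← CommRingCat.comp_apply, ← Scheme.Hom.comp_appTop, reassoc_of% hσh,
          Scheme.Hom.comp_appTop]
        rfl }
  let Δ : M →ₗ[Γ(S, ⊤)] Γ(X, ⊤) ⊗[Γ(S, ⊤)] M := κe.symm.toLinearMap.comp σl
  have hΔ : ∀ x : M, κ (Δ x) = gσ x := fun x => κe.apply_symm_apply (σl x)
  -- the two sides of coassociativity
  have hκ₂inj : Function.Injective
      (fun z : Γ(X, ⊤) ⊗[Γ(S, ⊤)] (Γ(X, ⊤) ⊗[Γ(S, ⊤)] M) => κ' (κl.lTensor Γ(X, ⊤) z)) :=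
    hκb'.1.comp (κe.lTensor Γ(X, ⊤)).injective
  have smap : ∀ {k : pullback (d₁ ≫ h ≫ p) p ⟶ pullback (h ≫ p) p}, k ≫ d₂ = s₂ →
      ∀ b : Γ(X, ⊤), k.appTop (d₂.appTop b) = s₂.appTop b := fun {k} e b => by
    rw [← CommRingCat.comp_apply, ← Scheme.Hom.comp_appTop, e]
  have key₁ : ∀ z, κ' (κl.lTensor Γ(X, ⊤) (Δ.lTensor Γ(X, ⊤) z)) = m₁ (κ z) := fun z => by
    induction z using TensorProduct.induction_on with
    | zero => simp only [map_zero]
    | add a b ha hb => simp only [map_add, ha, hb]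
    | tmul b m =>
      rw [LinearMap.lTensor_tmul, LinearMap.lTensor_tmul, show κl (Δ m) = κe (Δ m) from rfl,
        hκ', hκ, gmap_smul, smap hM₁2]
      congr 1
      change gf (κ (Δ m)) = m₁ (g₁ m)
      rw [hΔ]
      exact (gmap_gmap A rfl ph pR pR₂ cσ cf (cσ.comp cf) _).trans
        (gmap_gmap A hM₁1 ph pR pR₂ c₁ cart₁ (cσ.comp cf) _).symm
  have key₂ : ∀ z, κ' (κl.lTensor Γ(X, ⊤)
      ((TensorProduct.mk Γ(S, ⊤) Γ(X, ⊤) M 1).lTensor Γ(X, ⊤) z)) = m₂ (κ z) := fun z => by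
    induction z using TensorProduct.induction_on with
    | zero => simp only [map_zero]
    | add a b ha hb => simp only [map_add, ha, hb]
    | tmul b m =>
      rw [LinearMap.lTensor_tmul, LinearMap.lTensor_tmul, hκ', hκ, gmap_smul, smap hM₂2]
      congr 1
      change gf (κ (1 ⊗ₜ m)) = m₂ (g₁ m)
      rw [hκ, map_one, one_smul]
      exact (gmap_gmap A rfl ph pR pR₂ c₁ cf (c₁.comp cf) _).trans
        (gmap_gmap A hM₂1 ph pR pR₂ c₁ cart₂ (c₁.comp cf) _).symm
  have hco : ∀ x, Δ.lTensor Γ(X, ⊤) (Δ x) =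
      (TensorProduct.mk Γ(S, ⊤) Γ(X, ⊤) M 1).lTensor Γ(X, ⊤) (Δ x) := fun x => hκ₂inj (by
    change κ' _ = κ' _
    rw [key₁, key₂, hΔ]
    exact (gmap_gmap A hMσ ph pR pR₂ cσ cart₁ (cσ.comp cart₂) _).trans
      (gmap_gmap A rfl ph pR pR₂ cσ cart₂ (cσ.comp cart₂) _).symm)
  -- the span of the invariant sections
  obtain ⟨z, hz⟩ := exists_invariant_preimage Δ hco (show M from t)
  let M₀ := LinearMap.ker (Δ - TensorProduct.mk Γ(S, ⊤) Γ(X, ⊤) M 1)
  have ht : gE (κ (M₀.subtype.lTensor Γ(X, ⊤) z)) = t := by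
    rw [hz, hΔ]
    exact (gmap_gmap A hEσ ph pR ph cσ cartE (Cart.id h) t).trans (A.map_id ph (Cart.id h) ⊤ t)
  by_contra hne
  simp only [not_exists, not_and] at hne
  refine (?_ : v ∉ gloc t) hv
  rw [← ht]
  clear hz ht
  induction z using TensorProduct.induction_on with
  | zero =>
    rw [map_zero, map_zero, map_zero]
    obtain ⟨U, e, -, hcov, he⟩ := Groth.PicAux.exists_gen_cover hL
    rw [Groth.Ega2Proj.mem_gloc_iff (he v) (c := 0)
      (by rw [Groth.PicAux.res_zero, zero_smul]) (hcov v), map_zero]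
    exact not_isUnit_zero
  | add a b ha hb =>
    rw [map_add, map_add, map_add]
    simpa using not_mem_gloc_add hL ha hb 1 1
  | tmul b m =>
    have hinv : gσ m.1 = g₁ m.1 := by
      have hm : Δ m.1 = (1 : Γ(X, ⊤)) ⊗ₜ m.1 := sub_eq_zero.1 m.2
      rw [← hΔ, hm, hκ, map_one, one_smul]
    have hst : α.Stable (gloc (L := A.mod h ph) m.1) := fun T w x e hw τ => by
      rw [α.act_eq_lift_σ]
      have h1 : σ ⁻¹ᵁ gloc (L := A.mod h ph) m.1 = d₁ ⁻¹ᵁ gloc (L := A.mod h ph) m.1 := by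
        rw [← gloc_gmap A ph pR cσ hL, ← gloc_gmap A ph pR c₁ hL]
        exact congrArg gloc hinv
      have h2 : pullback.lift w x e τ ∈ d₁ ⁻¹ᵁ gloc (L := A.mod h ph) m.1 := by
        change d₁ (pullback.lift w x e τ) ∈ gloc (L := A.mod h ph) m.1
        rw [← Scheme.Hom.comp_apply, pullback.lift_fst]
        exact hw τ
      rw [← h1] at h2
      rw [Scheme.Hom.comp_apply]
      exact h2
    have hbad : v ∉ gloc (L := A.mod h ph) m.1 := fun hm => hne m.1 hm hst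
    rw [LinearMap.lTensor_tmul, Submodule.subtype_apply, hκ]
    change v ∉ gloc (gE (d₂.appTop b • g₁ m.1))
    rw [gmap_smul, gmap_gmap A hE₁ ph pR ph c₁ cartE (Cart.id h), gmap_id A rfl ph (Cart.id h)]
    simpa using not_mem_gloc_add hL hbad hbad (E.appTop (d₂.appTop b)) 0

end Invariant

end Groth.Curves1.PolDesc
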