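import Groth.Agent.Curves1.PolDesc.Pol
import Groth.Agent.PicAux.QCoh

/-!
# The inverse of an invertible polarisation
-/

universe u

set_option autoImplicit false
set_option backward.isDefEq.respectTransparency.types false

open CategoryTheory Limits AlgebraicGeometry Opposite TopologicalSpace

noncomputable section

namespace Groth.Curves1.PolDesc

open Groth.PicAux (pullSec res res_res res_self app_res res_ext Gen tmulSec res_tmulSec
  tmulSec_smul_left exists_gen_cover)

variable {W Q W' Q' W'' Q'' : Scheme.{u}}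

/-- A perfect pairing detects sections. -/
theorem pairing_inj {N L : W.Modules} (φ : CohB1.tensorMod N L ≅ Coh.structureModule W)
    (hN : PicF.IsInvertible N) {ι : Type u} {U : W.Opens} (V : ι → W.Opens) (hV : ∀ i, V i ≤ U)
    (hcov : U ≤ ⨆ i, V i) (e : ∀ i, Γ(L, V i)) (he : ∀ i, Gen L (V i) (e i)) {x y : Γ(N, U)}
    (H : ∀ i, φ.hom.app (V i) (tmulSec (res N (hV i) x) (e i)) =
      φ.hom.app (V i) (tmulSec (res N (hV i) y) (e i))) : x = y := by
  refine res_ext V hV hcov fun i => ?_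
  have h2 : tmulSec (res N (hV i) x) (e i) = tmulSec (res N (hV i) y) (e i) :=
    (ConcreteCategory.bijective_of_isIso (φ.hom.app (V i))).1 (H i)
  obtain ⟨B, f, hB, -, hf⟩ := exists_gen_cover hN
  refine res_ext (fun w => V i ⊓ B w) (fun w => inf_le_left)
    (Groth.PicAux.le_iSup_inf hB (V i)) fun w => ?_
  have h3 := congrArg (res _ (inf_le_left : V i ⊓ B w ≤ V i)) h2
  rw [res_tmulSec, res_tmulSec] at h3
  obtain ⟨c, hc⟩ := (hf w).exists_coeff (inf_le_right : V i ⊓ B w ≤ B w)
    (res N (inf_le_left : V i ⊓ B w ≤ V i) (res N (hV i) x))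
  obtain ⟨d, hd⟩ := (hf w).exists_coeff (inf_le_right : V i ⊓ B w ≤ B w)
    (res N (inf_le_left : V i ⊓ B w ≤ V i) (res N (hV i) y))
  rw [hc, hd, tmulSec_smul_left, tmulSec_smul_left] at h3
  have hg := ((hf w).res (inf_le_right : V i ⊓ B w ≤ B w)).tensor ((he i).res inf_le_left)
  have hcd : c = d := hg.smul_inj le_rfl (by rw [res_self]; exact h3)
  rw [hc, hd, hcd]

variable {P : MorphismProperty Scheme.{u}} (A : Pol P)
  (hA : ∀ {W Q : Scheme.{u}} (π : W ⟶ Q) (hπ : P π), PicF.IsInvertible (A.mod π hπ))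

/-- The chosen inverse. -/
def invMod {π : W ⟶ Q} (hπ : P π) : W.Modules :=
  (Groth.PicAux.exists_inverse (hA π hπ)).choose

theorem isInvertible_invMod {π : W ⟶ Q} (hπ : P π) : PicF.IsInvertible (invMod A hA hπ) :=
  (Groth.PicAux.exists_inverse (hA π hπ)).choose_spec.1

/-- The pairing with the inverse. -/
def invPair {π : W ⟶ Q} (hπ : P π) :
    CohB1.tensorMod (invMod A hA hπ) (A.mod π hπ) ≅ Coh.structureModule W :=
  (Groth.PicAux.exists_inverse (hA π hπ)).choose_spec.2.some

variable {k : W' ⟶ W} {π : W ⟶ Q} {π' : W' ⟶ Q'}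

theorem exists_invMap (h : P π) (h' : P π') (hk : Cart k π' π) :
    ∃ c : (Scheme.Modules.pullback k).obj (invMod A hA h) ⟶ invMod A hA h', IsIso c ∧
      ∀ (U : W.Opens) (n : Γ(invMod A hA h, U)) (a : Γ(A.mod π h, U)),
        (invPair A hA h').hom.app (k ⁻¹ᵁ U) (tmulSec (secMap k c U n) (secMap k (A.map h h' hk) U a)) =
          OmegaSh.strSect W' (k ⁻¹ᵁ U)
            (k.app U (OmegaSh.fnSect W U ((invPair A hA h).hom.app U (tmulSec n a)))) := by
  haveI := A.isIso_map h h' hk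
  haveI := Groth.PicAux.isIso_pullUnit k
  let L' := A.mod π' h'
  let N := (Scheme.Modules.pullback k).obj (invMod A hA h)
  haveI := Groth.PicAux.isEquivalence_tensorRightMod_of_isInvertible (hA π' h')
  obtain ⟨e, he⟩ := Groth.PicAux.exists_pullback_tensorMod k (invMod A hA h) (A.mod π h)
  let ψ : CohB1.tensorMod N L' ≅ CohB1.tensorMod (invMod A hA h') L' :=
    PicGrp.tensorModIso (Iso.refl N) (asIso (A.map h h' hk)).symm ≪≫ e.symm ≪≫
      (Scheme.Modules.pullback k).mapIso (invPair A hA h) ≪≫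
      asIso (Groth.PicAux.pullUnit k) ≪≫ (invPair A hA h').symm
  obtain ⟨c, hc⟩ := (DCoh.tensorRightMod L').map_surjective
    (X := N) (Y := invMod A hA h') ψ.hom
  haveI : IsIso ((DCoh.tensorRightMod L').map c) := hc ▸ inferInstanceAs (IsIso ψ.hom)
  refine ⟨c, isIso_of_reflects_iso c (DCoh.tensorRightMod L'), fun U n a => ?_⟩
  have h1 : tmulSec (secMap k c U n) (secMap k (A.map h h' hk) U a) =
      ψ.hom.app (k ⁻¹ᵁ U) (tmulSec (pullSec k (invMod A hA h) n) (secMap k (A.map h h' hk) U a)) := by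
    rw [secMap_apply k c, ← Groth.PicAux.tensorRightMod_map_tmulSec L' c]
    exact congr(($hc).app (k ⁻¹ᵁ U) _)
  rw [h1]
  have h2 : (PicGrp.tensorModIso (Iso.refl N) (asIso (A.map h h' hk)).symm).hom.app (k ⁻¹ᵁ U)
      (tmulSec (pullSec k (invMod A hA h) n) (secMap k (A.map h h' hk) U a)) =
      e.hom.app (k ⁻¹ᵁ U) (pullSec k _ (tmulSec n a)) := by
    rw [tensorModIso_tmulSec, he]
    congr 1
    exact congr(($(IsIso.hom_inv_id (A.map h h' hk))).app (k ⁻¹ᵁ U) (pullSec k _ a))
  change (invPair A hA h').hom.app (k ⁻¹ᵁ U) ((invPair A hA h').inv.app (k ⁻¹ᵁ U)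
    ((Groth.PicAux.pullUnit k).app (k ⁻¹ᵁ U)
      (((Scheme.Modules.pullback k).map (invPair A hA h).hom).app (k ⁻¹ᵁ U)
        (e.inv.app (k ⁻¹ᵁ U) ((PicGrp.tensorModIso (Iso.refl N) (asIso (A.map h h' hk)).symm).hom.app
          (k ⁻¹ᵁ U) _))))) = _
  rw [h2]
  refine (congr(($((invPair A hA h').inv_hom_id)).app (k ⁻¹ᵁ U) _)).trans ?_
  refine Eq.trans ?_ (secMap_pullUnit k U ((invPair A hA h).hom.app U (tmulSec n a)))
  refine congrArg ((Groth.PicAux.pullUnit k).app (k ⁻¹ᵁ U)) ?_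
  refine (congrArg (((Scheme.Modules.pullback k).map (invPair A hA h).hom).app (k ⁻¹ᵁ U))
    (congr(($(e.hom_inv_id)).app (k ⁻¹ᵁ U) (pullSec k _ (tmulSec n a))))).trans ?_
  exact Groth.PicAux.pullSec_map k (invPair A hA h).hom _

/-- The comparison of inverses. -/
def invMap (h : P π) (h' : P π') (hk : Cart k π' π) :
    (Scheme.Modules.pullback k).obj (invMod A hA h) ⟶ invMod A hA h' :=
  (exists_invMap A hA h h' hk).choose

theorem invMap_spec (h : P π) (h' : P π') (hk : Cart k π' π) (U : W.Opens)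
    (n : Γ(invMod A hA h, U)) (a : Γ(A.mod π h, U)) :
    (invPair A hA h').hom.app (k ⁻¹ᵁ U)
        (tmulSec (secMap k (invMap A hA h h' hk) U n) (secMap k (A.map h h' hk) U a)) =
      OmegaSh.strSect W' (k ⁻¹ᵁ U)
        (k.app U (OmegaSh.fnSect W U ((invPair A hA h).hom.app U (tmulSec n a)))) :=
  (exists_invMap A hA h h' hk).choose_spec.2 U n a

/-- The inverse polarisation. -/
def invPol : Pol P where
  mod π h := invMod A hA h
  map h h' hk := invMap A hA h h' hk
  isIso_map h h' hk := (exists_invMap A hA h h' hk).choose_spec.1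
  map_id {W Q π} h hk U x := by
    obtain ⟨B, e, hB, -, he⟩ := exists_gen_cover (hA π h)
    refine pairing_inj (invPair A hA h) (isInvertible_invMod A hA h) (fun w => U ⊓ B w)
      (fun w => inf_le_left) (Groth.PicAux.le_iSup_inf hB U) (fun w => res _ inf_le_right (e w))
      (fun w => (he w).res inf_le_right) fun w => ?_
    refine (congrArg (fun z => (invPair A hA h).hom.app (U ⊓ B w) (tmulSec z (res _ inf_le_right (e w))))
      (secMap_res (𝟙 W) (invMap A hA h h hk) (inf_le_left : U ⊓ B w ≤ U) x).symm).trans ?_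
    have hs := invMap_spec A hA h h hk (U ⊓ B w) (res _ inf_le_left x) (res _ inf_le_right (e w))
    rw [A.map_id h hk] at hs
    exact hs
  map_comp {W Q W' Q' W'' Q'' k k' π π' π''} h h' h'' hk hk' hkk U x := by
    haveI := A.isIso_map h h'' hkk
    obtain ⟨B, e, hB, -, he⟩ := exists_gen_cover (hA π h)
    refine pairing_inj (invPair A hA h'') (isInvertible_invMod A hA h'')
      (fun w => (k' ≫ k) ⁻¹ᵁ (U ⊓ B w)) (fun w => (k' ≫ k).preimage_mono inf_le_left)
      (fun z hz => ?_) (fun w => secMap (k' ≫ k) (A.map h h'' hkk) _ (res _ inf_le_right (e w)))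
      (fun w => ((he w).res inf_le_right |>.pull (k' ≫ k)).map (A.map h h'' hkk)) fun w => ?_
    · obtain ⟨w, hw⟩ := Opens.mem_iSup.1 (Groth.PicAux.le_iSup_inf hB U hz)
      exact Opens.mem_iSup.2 ⟨w, hw⟩
    · rw [← secMap_res (k' ≫ k) (invMap A hA h h'' hkk) (inf_le_left : U ⊓ B w ≤ U)]
      refine Eq.trans ?_ (invMap_spec A hA h h'' hkk (U ⊓ B w) (res _ inf_le_left x)
        (res _ inf_le_right (e w))).symm
      have hres : res (invMod A hA h'') ((k' ≫ k).preimage_mono (inf_le_left : U ⊓ B w ≤ U))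
          (secMap k' (invMap A hA h' h'' hk') (k ⁻¹ᵁ U) (secMap k (invMap A hA h h' hk) U x)) =
          secMap k' (invMap A hA h' h'' hk') (k ⁻¹ᵁ (U ⊓ B w))
            (secMap k (invMap A hA h h' hk) (U ⊓ B w) (res _ inf_le_left x)) := by
        rw [secMap_res k (invMap A hA h h' hk) (inf_le_left : U ⊓ B w ≤ U), secMap_res]
        rfl
      rw [hres, ← A.map_comp h h' h'' hk hk' hkk]
      refine (invMap_spec A hA h' h'' hk' (k ⁻¹ᵁ (U ⊓ B w)) _ _).trans ?_
      rw [invMap_spec A hA h h' hk]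
      rfl

end Groth.Curves1.PolDesc
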