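import Groth.Agent.Curves1.PolDesc.Eff
import Groth.Agent.Curves1.PolDesc.Inv
import Groth.Agent.Chow.VeryAmplePn
import Groth.Agent.CurveBridge.BaseChange
import Groth.Agent.Curves1.RR.EtaleGenusZero
import Groth.Agent.EulerDeg.Tensor
import Groth.Agent.VarietyBC.CurveDeg
import Groth.Agent.S12128
import Groth.Agent.S7833

/-!
# Descent of families of curves of genus different from one
-/

universe u

set_option autoImplicit false
set_option backward.isDefEq.respectTransparency.types false
set_option linter.style.haveILetI false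

open CategoryTheory Limits AlgebraicGeometry Opposite TopologicalSpace

noncomputable section

namespace Groth.Curves1.PolDesc

/-- The class of base changes of `h`. -/
def BCof {V X : Scheme.{u}} (h : V ⟶ X) : MorphismProperty Scheme.{u} :=
  fun W Q π => ∃ (k : W ⟶ V) (b : Q ⟶ X), IsPullback k π h b

variable {V X : Scheme.{u}} {h : V ⟶ X}

theorem bcOf_self : BCof h h := ⟨𝟙 V, 𝟙 X, IsPullback.of_id_fst⟩

instance : (BCof h).IsStableUnderBaseChange where
  of_isPullback := fun {_ _ _ _ _ _ _ _} sq hg => by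
    obtain ⟨k, b, hkb⟩ := hg
    exact ⟨_, _, sq.paste_horiz hkb⟩

theorem bcOf_le (P : MorphismProperty Scheme.{u}) [P.IsStableUnderBaseChange] (hP : P h)
    {W Q : Scheme.{u}} {π : W ⟶ Q} (hπ : BCof h π) : P π :=
  let ⟨_, _, hkb⟩ := hπ; P.of_isPullback hkb hP

/-- Restriction of a polarisation to a smaller class. -/
def Pol.restrictTo {P : MorphismProperty Scheme.{u}} (A : Pol P) (P' : MorphismProperty Scheme.{u})
    (hle : ∀ {W Q : Scheme.{u}} (π : W ⟶ Q), P' π → P π) : Pol P' where
  mod π hπ := A.mod π (hle π hπ)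
  map hπ hπ' hk := A.map (hle _ hπ) (hle _ hπ') hk
  isIso_map hπ hπ' hk := A.isIso_map (hle _ hπ) (hle _ hπ') hk
  map_id hπ hk := A.map_id (hle _ hπ) hk
  map_comp hπ hπ' hπ'' hk hk' hkk := A.map_comp (hle _ hπ) (hle _ hπ') (hle _ hπ'') hk hk' hkk

/-- Ampleness on the fibres passes to the base changes. -/
theorem isAmple_of_bcOf (A : Pol (BCof h)) [IsProper h] [LocallyOfFinitePresentation h]
    (hinv : PicF.IsInvertible (A.mod h bcOf_self))
    (hfib : ∀ x : X, CohB1.IsAmple ((Scheme.Modules.pullback (h.fiberι x)).obj (A.mod h bcOf_self)))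
    {W Q : Scheme.{u}} (π : W ⟶ Q) (hπ : BCof h π) (hQ : IsAffine Q) :
    CohB1.IsAmple (A.mod π hπ) := by
  obtain ⟨k, b, sq⟩ := hπ
  haveI : IsProper π := bcOf_le @IsProper ‹_› ⟨k, b, sq⟩
  haveI : LocallyOfFinitePresentation π := bcOf_le @LocallyOfFinitePresentation ‹_› ⟨k, b, sq⟩
  haveI := A.isIso_map bcOf_self (⟨k, b, sq⟩ : BCof h π) ⟨b, sq⟩
  let e := asIso (A.map bcOf_self (⟨k, b, sq⟩ : BCof h π) ⟨b, sq⟩)
  have hrel : RelAmple.IsRelAmple π (A.mod π ⟨k, b, sq⟩) := by
    refine (Groth.Agent.S12128.result π _ (Groth.PicAux.isInvertible_of_iso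
      (Groth.PicAux.isInvertible_pullback k hinv) e)).2 fun q => ?_
    have hb : Q.fromSpecResidueField q ≫ b =
        Spec.map (b.residueFieldMap q) ≫ X.fromSpecResidueField (b q) :=
      (Scheme.Hom.SpecMap_residueFieldMap_fromSpecResidueField b q).symm
    have big : IsPullback (π.fiberι q ≫ k) (π.fiberToSpecResidueField q) h
        (Spec.map (b.residueFieldMap q) ≫ X.fromSpecResidueField (b q)) := by
      rw [← hb]
      exact (IsPullback.of_hasPullback π (Q.fromSpecResidueField q)).paste_horiz sq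
    let c : π.fiber q ⟶ h.fiber (b q) := pullback.lift (π.fiberι q ≫ k)
      (π.fiberToSpecResidueField q ≫ Spec.map (b.residueFieldMap q))
      (by rw [Category.assoc (π.fiberToSpecResidueField q)]; exact big.w)
    have hc₁ : c ≫ h.fiberι (b q) = π.fiberι q ≫ k := pullback.lift_fst _ _ _
    have sqc : IsPullback c (π.fiberToSpecResidueField q) (h.fiberToSpecResidueField (b q))
        (Spec.map (b.residueFieldMap q)) := by
      refine IsPullback.of_right ?_ (pullback.lift_snd _ _ _)
        (IsPullback.of_hasPullback h (X.fromSpecResidueField (b q)))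
      exact hc₁.symm ▸ big
    haveI : IsAffineHom c := MorphismProperty.of_isPullback sqc.flip inferInstance
    refine Groth.Ega2Proj.isAmple_of_iso ?_
      (Groth.Chow.isAmple_pullback_of_isAffineHom c (hfib (b q)))
    exact (Scheme.Modules.pullbackComp c (h.fiberι (b q))).app _ ≪≫
      (Scheme.Modules.pullbackCongr hc₁).app _ ≪≫
      ((Scheme.Modules.pullbackComp (π.fiberι q) k).app _).symm ≪≫
      (Scheme.Modules.pullback (π.fiberι q)).mapIso e
  haveI : CompactSpace W := QuasiCompact.compactSpace_of_compactSpace π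
  exact Groth.Ega2Proj.isAmple_of_iso (Scheme.Modules.restrictFunctorId.app _)
    (Groth.Ega2Proj.isAmple_of_isRelAmple hrel ⟨⊤, isAffineOpen_top Q⟩ (𝟙 W) (fun _ _ => trivial))

/-- The fibre of a proper smooth morphism with `h⁰ = 1` is integral. -/
theorem isIntegral_fibre (f : V ⟶ X) [IsProper f] [Smooth f] (x : X)
    (hdim : topologicalKrullDim ↥(f.fiber x) = 1)
    (h0 : letI : (f.fiber x).Over (Spec (X.residueField x)) := ⟨f.fiberToSpecResidueField x⟩
      Module.finrank (X.residueField x) (Coh.HH (f.fiber x) (Coh.structureModule (f.fiber x)) 0) = 1) :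
    IsIntegral (f.fiber x) := by
  letI : (f.fiber x).Over (Spec (CommRingCat.of (X.residueField x))) := ⟨f.fiberToSpecResidueField x⟩
  haveI : IsProper ((f.fiber x) ↘ Spec (CommRingCat.of (X.residueField x))) :=
    MorphismProperty.pullback_snd (P := @IsProper) _ _ ‹_›
  haveI : Smooth ((f.fiber x) ↘ Spec (CommRingCat.of (X.residueField x))) :=
    MorphismProperty.pullback_snd (P := @Smooth) _ _ ‹_›
  haveI : Nonempty ↥(f.fiber x) := by
    by_contra hne
    rw [not_nonempty_iff] at hne
    haveI : IsEmpty (IrreducibleCloseds ↥(f.fiber x)) :=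
      ⟨fun Z => Z.isIrreducible'.1.elim fun z _ => hne.false z⟩
    rw [topologicalKrullDim, Order.krullDim_eq_bot] at hdim
    exact WithBot.bot_ne_one hdim
  haveI := Groth.Curves1.RR.connectedSpace_of_h0 (X.residueField x) h0
  exact Groth.CurveBridge.isIntegral_of_smooth (X.residueField x) (f.fiber x)

/-- Descent is effective for families of curves of genus at least two. -/
theorem exists_iso_of_two_le {S' S : Scheme.{u}} {p : S' ⟶ S} [Groth.Pi1Desc.IsCover p]
    (D : Desc.SchDD p) [IsProper D.obj.hom] [Smooth D.obj.hom]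
    (hirr : ∀ s : S', IrreducibleSpace ↥(D.obj.hom.fiber s))
    (hdim : ∀ s : S', topologicalKrullDim ↥(D.obj.hom.fiber s) = 1)
    (hg : ∀ s : S', (2 : ℤ) ≤ 1 -
      (CohIII.fiberRank D.obj.hom (Coh.structureModule D.obj.left) 0 s : ℤ) +
        CohIII.fiberRank D.obj.hom (Coh.structureModule D.obj.left) 1 s) :
    ∃ W : Over S, Nonempty ((Desc.toDD p).obj W ≅ D) := by
  have hrel := Groth.Agent.S7833.result D.obj.hom hirr hdim hg
  let A : Pol (BCof D.obj.hom) := omegaPol.restrictTo (BCof D.obj.hom)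
    (fun π hπ => bcOf_le @QuasiSeparated (inferInstance : QuasiSeparated D.obj.hom) hπ)
  refine exists_iso_of_pol A (fun π hπ => bcOf_le @IsProper ‹_› hπ) (fun π hπ hQ => ?_) D bcOf_self
  exact isAmple_of_bcOf A (Groth.Ega2Proj.isInvertible_of_isRelAmple hrel)
    (fun x => Groth.AmpleFibre.isAmple_fibre_of_isRelAmple D.obj.hom hrel x) π hπ hQ

/-- Descent is effective for families of curves of genus zero. -/
theorem exists_iso_of_genus_zero {S' S : Scheme.{u}} {p : S' ⟶ S} [Groth.Pi1Desc.IsCover p]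
    (D : Desc.SchDD p) [IsProper D.obj.hom] [Smooth D.obj.hom] [GeometricallyConnected D.obj.hom]
    (hdim : ∀ s : S', topologicalKrullDim ↥(D.obj.hom.fiber s) = 1)
    (hgen : ∀ s : S', letI : (D.obj.hom.fiber s).Over (Spec (S'.residueField s)) :=
        ⟨D.obj.hom.fiberToSpecResidueField s⟩
      Curv2.genus (S'.residueField s) (D.obj.hom.fiber s) = 0) :
    ∃ W : Over S, Nonempty ((Desc.toDD p).obj W ≅ D) := by
  let f := D.obj.hom
  let A : Pol (BCof f) := omegaPol.restrictTo (BCof f)
    (fun π hπ => bcOf_le @QuasiSeparated (inferInstance : QuasiSeparated f) hπ)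
  have key : ∀ s, PicF.IsInvertible ((Scheme.Modules.pullback (f.fiberι s)).obj (Omega.sheaf f)) ∧
      ∀ N : D.obj.left.Modules, PicF.IsInvertible N →
        Nonempty (CohB1.tensorMod N (Omega.sheaf f) ≅ Coh.structureModule D.obj.left) →
        CohB1.IsAmple ((Scheme.Modules.pullback (f.fiberι s)).obj N) := by
    intro s
    let k := S'.residueField s
    letI : (f.fiber s).Over (Spec (CommRingCat.of k)) := ⟨f.fiberToSpecResidueField s⟩
    haveI : IsProper ((f.fiber s) ↘ Spec (CommRingCat.of k)) :=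
      MorphismProperty.pullback_snd (P := @IsProper) _ _ ‹_›
    haveI : Smooth ((f.fiber s) ↘ Spec (CommRingCat.of k)) :=
      MorphismProperty.pullback_snd (P := @Smooth) _ _ ‹_›
    haveI : GeometricallyConnected ((f.fiber s) ↘ Spec (CommRingCat.of k)) :=
      MorphismProperty.pullback_snd (P := @GeometricallyConnected) _ _ ‹_›
    haveI := Groth.CurveBridge.connectedSpace_of_geometrically (f.fiber s) k
    haveI := Groth.CurveBridge.isIntegral_of_smooth k (f.fiber s)
    obtain ⟨hΩ, hd⟩ := Groth.Curves1.RR.omega_deg k (X := f.fiber s) (hdim s)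
      (Groth.CurveBridge.h0_of_geometrically k (f.fiber s) (hdim s))
    have sq : IsPullback (f.fiberι s) ((f.fiber s) ↘ Spec (CommRingCat.of k)) f
        (S'.fromSpecResidueField s) := IsPullback.of_hasPullback _ _
    obtain ⟨e⟩ := Groth.OmegaSheaf.nonempty_pullback_iso sq (Groth.OmegaSheaf.isUniversal_dOmega f)
      (Groth.OmegaSheaf.isUniversal_dOmega ((f.fiber s) ↘ Spec (CommRingCat.of k)))
    have hI := Groth.PicAux.isInvertible_of_iso hΩ e.symm
    refine ⟨hI, fun N hN ⟨φ⟩ => ?_⟩
    have hN' := Groth.PicAux.isInvertible_pullback (f.fiberι s) hN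
    rw [Groth.VarietyBC.CurveDeg.isAmple_iff_deg_pos k (hdim s) hN']
    obtain ⟨φ'⟩ := Groth.PicAux.isInverseOf_pullback (f.fiberι s)
      (show ClSub.IsInverseOf N (Omega.sheaf f) from ⟨φ⟩)
    have hadd := Groth.EulerDeg.deg_tensor_invertible k (hdim s).le hN' hI
    rw [Groth.EulerDeg.deg_congr (k := k) φ' 1, Groth.EulerDeg.deg_congr (k := k) e 1, hd,
      hgen s] at hadd
    have h0 : Curv2.deg k (f.fiber s) (Coh.structureModule (f.fiber s)) 1 = 0 := by
      simp [Curv2.deg]
    rw [h0] at hadd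
    omega
  have hω : PicF.IsInvertible (Omega.sheaf f) :=
    Groth.FibreVA.CurveFamily.isInvertible_of_fibres f (Groth.OmegaSheaf.isFinLocFree_sheaf f)
      fun s => (key s).1
  have hA : ∀ {W Q : Scheme.{u}} (π : W ⟶ Q) (hπ : BCof f π), PicF.IsInvertible (A.mod π hπ) :=
    fun π hπ => by
      obtain ⟨k, b, sq⟩ := hπ
      exact isInvertible_mod' A bcOf_self ⟨k, b, sq⟩ ⟨b, sq⟩ hω
  refine exists_iso_of_pol (invPol A hA) (fun π hπ => bcOf_le @IsProper ‹IsProper f› hπ)
    (fun π hπ hQ => ?_) D bcOf_self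
  exact isAmple_of_bcOf (invPol A hA) (isInvertible_invMod A hA bcOf_self)
    (fun x => (key x).2 _ (isInvertible_invMod A hA bcOf_self) ⟨invPair A hA bcOf_self⟩) π hπ hQ

end Groth.Curves1.PolDesc
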