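import Groth.Agent.Curves1.PolDesc.Core
import Groth.Agent.Pi1Desc.Fpqc
import Groth.Agent.PropsBasic.AmpleUnivClosed

/-!
# Effective descent from a polarisation
-/

universe u

set_option autoImplicit false
set_option backward.isDefEq.respectTransparency.types false

open CategoryTheory Limits AlgebraicGeometry Opposite TopologicalSpace

noncomputable section

namespace Groth.Curves1.PolDesc

open Groth.PropsBasic.Ample (gloc)
open Groth.Pi1Desc (Act IsCover)

variable {P : MorphismProperty Scheme.{u}} [P.IsStableUnderBaseChange] (A : Pol P)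

theorem isInvertible_powPol_mod {W Q : Scheme.{u}} {π : W ⟶ Q} (hπ : P π)
    (hL : PicF.IsInvertible (A.mod π hπ)) (n : ℕ) : PicF.IsInvertible ((powPol A n).mod π hπ) := by
  rw [powPol_mod]
  exact Groth.PicAux.isInvertible_tensorPow hL n

/-- Descent is effective in the affine case. -/
theorem eff_of_pol_of_isAffine (hproper : ∀ {W Q : Scheme.{u}} (π : W ⟶ Q), P π → IsProper π)
    (hample : ∀ {W Q : Scheme.{u}} (π : W ⟶ Q) (hπ : P π), IsAffine Q → CohB1.IsAmple (A.mod π hπ))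
    {V X S : Scheme.{u}} {h : V ⟶ X} {p : X ⟶ S} [IsAffine X] [IsAffine S] [Flat p] [Surjective p]
    (ph : P h) (α : Act h p) : α.Eff := by
  haveI := hproper h ph
  have hA := hample h ph ‹_›
  haveI : CompactSpace X := inferInstance
  refine Act.eff_of_cover fun v => ?_
  obtain ⟨n, t, hvt, -⟩ := hA.2.2 v
  let A' := powPol A (n + 1)
  have e := powPol_mod A ph (n + 1)
  have hL' : PicF.IsInvertible (A'.mod h ph) := isInvertible_powPol_mod A ph hA.1 _
  have hA' : CohB1.IsAmple (A'.mod h ph) := by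
    rw [e]
    haveI : CompactSpace V := QuasiCompact.compactSpace_of_compactSpace h
    exact (Groth.Ega2Proj.isAmple_tensorPow_iff hA.1 (n + 1) (Nat.succ_pos n)).1 hA
  obtain ⟨t', ht'⟩ : ∃ t' : Γ(A'.mod h ph, (⊤ : V.Opens)), v ∈ gloc t' := by
    rw [e]
    exact ⟨Groth.PicAux.gsec t, by rwa [← Groth.PropsBasic.Ample.genLocus_eq_gloc]⟩
  obtain ⟨s, hvs, hst⟩ := exists_invariant_section A' α ph hL' t' ht'
  refine ⟨gloc s, hvs, hst, α.effOn_of_restrict hst ?_⟩
  haveI : IsAffine (gloc s).toScheme :=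
    Groth.PropsBasic.Ample.isAffineOpen_gloc_of_universallyClosed h hA' s
  exact Act.eff_of_isAffine _

/-- Descent along an fpqc cover is effective in the presence of a polarisation. -/
theorem eff_of_pol (hproper : ∀ {W Q : Scheme.{u}} (π : W ⟶ Q), P π → IsProper π)
    (hample : ∀ {W Q : Scheme.{u}} (π : W ⟶ Q) (hπ : P π), IsAffine Q → CohB1.IsAmple (A.mod π hπ))
    {V X S : Scheme.{u}} {h : V ⟶ X} {p : X ⟶ S} [IsCover p] (ph : P h) (α : Act h p) : α.Eff := by
  refine Act.eff_of_cover fun z => ?_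
  obtain ⟨_, ⟨O, hO, rfl⟩, hzO, -⟩ :=
    S.isBasis_affineOpens.exists_subset_of_mem_open (Set.mem_univ ((h ≫ p) z)) isOpen_univ
  change S.Opens at O
  refine ⟨_, hzO, α.stable_preimage O, α.effOn_preimage ?_⟩
  haveI : IsAffine (Scheme.Opens.toScheme O) := hO
  obtain ⟨n, c, k, W, hWa, -, hWO, hcov⟩ := Groth.Pi1Desc.exists_affine_refinement (p := p) hO
    (κ := fun _ => PUnit.{1}) (fun _ _ => (⊤ : X.Opens)) (fun _ => ⟨PUnit.unit, trivial⟩)
  haveI : ∀ l, IsAffine (W l).toScheme := hWa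
  let Y : Fin n → Scheme.{u} := fun l => (W l).toScheme
  let a : ∀ l, Y l ⟶ (p ⁻¹ᵁ O).toScheme := fun l => X.homOfLE (hWO l)
  let f := Sigma.desc a
  haveI : Flat p := IsCover.flat
  haveI : Flat (p ∣_ O) := IsZariskiLocalAtTarget.restrict ‹_› O
  haveI : Flat f := IsZariskiLocalAtSource.sigmaDesc fun l => inferInstance
  haveI : Surjective (f ≫ p ∣_ O) := ⟨fun y => by
    obtain ⟨l, x, hx, hxy⟩ := hcov (O.ι y) y.2
    refine ⟨Sigma.ι Y l ⟨x, hx⟩, O.ι.isOpenEmbedding.injective ?_⟩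
    rw [← Scheme.Hom.comp_apply, ← Scheme.Hom.comp_apply]
    simp only [f, Category.assoc, morphismRestrict_ι, Sigma.ι_desc_assoc, a, Scheme.homOfLE_ι_assoc]
    exact hxy⟩
  haveI : IsAffine (∐ Y : Scheme.{u}) := inferInstance
  haveI : QuasiCompact (f ≫ p ∣_ O) := (quasiCompact_iff_compactSpace _).2 inferInstance
  refine Act.eff_of_refine _ (IsPullback.of_hasPullback _ f) ?_
  refine eff_of_pol_of_isAffine A hproper hample ?_ _
  exact P.pullback_snd _ _ (P.of_isPullback (isPullback_morphismRestrict h (p ⁻¹ᵁ O)).flip ph)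

/-- A descent datum with a polarisation is effective. -/
theorem exists_iso_of_pol (hproper : ∀ {W Q : Scheme.{u}} (π : W ⟶ Q), P π → IsProper π)
    (hample : ∀ {W Q : Scheme.{u}} (π : W ⟶ Q) (hπ : P π), IsAffine Q → CohB1.IsAmple (A.mod π hπ))
    {X S : Scheme.{u}} {p : X ⟶ S} [IsCover p] (D : Desc.SchDD p) (ph : P D.obj.hom) :
    ∃ W : Over S, Nonempty ((Desc.toDD p).obj W ≅ D) := by
  obtain ⟨U, q, -, h⟩ := Groth.Pi1Desc.exists_iso_of_eff D
    (eff_of_pol A hproper hample ph (Groth.Pi1Desc.ofDD D))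
  exact ⟨U, h⟩

end Groth.Curves1.PolDesc
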