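import Groth.Agent.OmegaSheaf.Pull
import Groth.Agent.PicAux.PullTensor
import Groth.Agent.PicAux.PicLaw
import Groth.Agent.PropsBasic.AmpleBasis
import Groth.Prelude.Def_Omega4

/-!
# Polarisations compatible with cartesian squares

A `Pol` attaches a module to every morphism in a class and, to every cartesian map between two such
morphisms, an isomorphism of the inverse image, functorially. It is recorded through the induced maps
on sections.
-/

universe u

set_option autoImplicit false
set_option backward.isDefEq.respectTransparency.types false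

open CategoryTheory Limits AlgebraicGeometry Opposite TopologicalSpace

noncomputable section

namespace Groth.Curves1.PolDesc

open Groth.PicAux (pullSec pullSec_smul tmulSec res res_res res_self app_res res_pullSec
  res_tmulSec ptenUnit ptenUnit_locally_surjective res_ext res_add ptenUnit_res)

variable {W Q W' Q' W'' Q'' : Scheme.{u}}

/-- `k` is the projection of a cartesian square from `π'` to `π`. -/
def Cart (k : W' ⟶ W) (π' : W' ⟶ Q') (π : W ⟶ Q) : Prop :=
  ∃ b : Q' ⟶ Q, IsPullback k π' π b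

theorem Cart.id (π : W ⟶ Q) : Cart (𝟙 W) π π := ⟨𝟙 Q, IsPullback.of_id_fst⟩

theorem Cart.comp {k : W' ⟶ W} {k' : W'' ⟶ W'} {π : W ⟶ Q} {π' : W' ⟶ Q'} {π'' : W'' ⟶ Q''}
    (h : Cart k π' π) (h' : Cart k' π'' π') : Cart (k' ≫ k) π'' π :=
  let ⟨_, hb⟩ := h; let ⟨_, hb'⟩ := h'
  ⟨_, hb'.paste_horiz hb⟩

/-- Sections pulled back and pushed through a map out of the inverse image. -/
def secMap (k : W' ⟶ W) {M : W.Modules} {M' : W'.Modules}
    (c : (Scheme.Modules.pullback k).obj M ⟶ M') (U : W.Opens) : Γ(M, U) →+ Γ(M', k ⁻¹ᵁ U) :=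
  (c.app (k ⁻¹ᵁ U)).hom.comp (((Scheme.Modules.pullbackPushforwardAdjunction k).unit.app M).app U).hom

theorem secMap_apply (k : W' ⟶ W) {M : W.Modules} {M' : W'.Modules}
    (c : (Scheme.Modules.pullback k).obj M ⟶ M') (U : W.Opens) (x : Γ(M, U)) :
    secMap k c U x = c.app (k ⁻¹ᵁ U) (pullSec k M x) := rfl

theorem secMap_smul (k : W' ⟶ W) {M : W.Modules} {M' : W'.Modules}
    (c : (Scheme.Modules.pullback k).obj M ⟶ M') (U : W.Opens) (r : Γ(W, U)) (x : Γ(M, U)) :
    secMap k c U (r • x) = k.app U r • secMap k c U x := by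
  rw [secMap_apply, secMap_apply, pullSec_smul, Scheme.Modules.Hom.app_smul]

theorem secMap_res (k : W' ⟶ W) {M : W.Modules} {M' : W'.Modules}
    (c : (Scheme.Modules.pullback k).obj M ⟶ M') {U V : W.Opens} (h : V ≤ U) (x : Γ(M, U)) :
    secMap k c V (res M h x) = res M' (k.preimage_mono h) (secMap k c U x) := by
  rw [secMap_apply, secMap_apply, ← res_pullSec, app_res]

/-- Functorial modules on a class of morphisms. -/
structure Pol (P : MorphismProperty Scheme.{u}) where
  /-- the module -/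
  mod : ∀ {W Q : Scheme.{u}} (π : W ⟶ Q), P π → W.Modules
  /-- the comparison along a cartesian map -/
  map : ∀ {W Q W' Q' : Scheme.{u}} {k : W' ⟶ W} {π : W ⟶ Q} {π' : W' ⟶ Q'} (h : P π) (h' : P π'),
    Cart k π' π → ((Scheme.Modules.pullback k).obj (mod π h) ⟶ mod π' h')
  isIso_map : ∀ {W Q W' Q' : Scheme.{u}} {k : W' ⟶ W} {π : W ⟶ Q} {π' : W' ⟶ Q'} (h : P π) (h' : P π')
    (hk : Cart k π' π), IsIso (map h h' hk)
  map_id : ∀ {W Q : Scheme.{u}} {π : W ⟶ Q} (h : P π) (hk : Cart (𝟙 W) π π) (U : W.Opens)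
    (x : Γ(mod π h, U)), secMap (𝟙 W) (map h h hk) U x = x
  map_comp : ∀ {W Q W' Q' W'' Q'' : Scheme.{u}} {k : W' ⟶ W} {k' : W'' ⟶ W'} {π : W ⟶ Q} {π' : W' ⟶ Q'}
    {π'' : W'' ⟶ Q''} (h : P π) (h' : P π') (h'' : P π'') (hk : Cart k π' π) (hk' : Cart k' π'' π')
    (hkk : Cart (k' ≫ k) π'' π) (U : W.Opens) (x : Γ(mod π h, U)),
    secMap k' (map h' h'' hk') (k ⁻¹ᵁ U) (secMap k (map h h' hk) U x) =
      secMap (k' ≫ k) (map h h'' hkk) U x

variable {P : MorphismProperty Scheme.{u}}

/-- Two additive natural maps out of a tensor product agree if they agree on pure tensors. -/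
theorem tensor_natural_ext {L M : W.Modules} {N : W'.Modules} (j : W.Opens → W'.Opens)
    (hj : Monotone j) (hcov : ∀ (U : W.Opens) (V : ↥U → W.Opens), (∀ x, x.1 ∈ V x) →
      j U ≤ ⨆ x, j (V x))
    (F G : ∀ U : W.Opens, Γ(CohB1.tensorMod L M, U) →+ Γ(N, j U))
    (hF : ∀ (U V : W.Opens) (h : V ≤ U) x, F V (res _ h x) = res N (hj h) (F U x))
    (hG : ∀ (U V : W.Opens) (h : V ≤ U) x, G V (res _ h x) = res N (hj h) (G U x))
    (H : ∀ U a b, F U (tmulSec a b) = G U (tmulSec a b)) (U : W.Opens)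
    (t : Γ(CohB1.tensorMod L M, U)) : F U t = G U t := by
  choose V hV p hxV hp using fun x : (U : Type u) => ptenUnit_locally_surjective L M U t x.1 x.2
  refine res_ext (fun x => j (V x)) (fun x => hj (hV x)) (hcov U V hxV) fun x => ?_
  rw [← hF _ _ (hV x), ← hG _ _ (hV x), ← hp x]
  generalize p x = q
  induction q using TensorProduct.induction_on with
  | zero => rw [map_zero, map_zero, map_zero]
  | tmul a b => exact H _ a b
  | add q r hq hr => rw [map_add, map_add, map_add, hq, hr]

theorem preimage_le_iSup (k : W' ⟶ W) (U : W.Opens) (V : ↥U → W.Opens) (hV : ∀ x, x.1 ∈ V x) :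
    k ⁻¹ᵁ U ≤ ⨆ x, k ⁻¹ᵁ V x := fun z hz => Opens.mem_iSup.2 ⟨⟨k z, hz⟩, hV _⟩

section Omega

/-- The class of quasi-separated morphisms. -/
abbrev QS : MorphismProperty Scheme.{u} := @QuasiSeparated

variable {k : W' ⟶ W} {π : W ⟶ Q} {π' : W' ⟶ Q'}

theorem existsUnique_omega [QuasiSeparated π] [QuasiSeparated π'] (hk : Cart k π' π) :
    ∃! c : (Scheme.Modules.pullback k).obj (Omega.sheaf π) ⟶ Omega.sheaf π',
      OmegaSh.IsDiffCompat k (OmegaSh.dOmega π) (OmegaSh.dOmega π') c :=
  let ⟨_, hb⟩ := hk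
  Groth.OmegaSheaf.existsUnique_isDiffCompat (Groth.OmegaSheaf.isUniversal_dOmega π) hb.w

/-- The comparison of differentials along a cartesian map. -/
def omegaMap [QuasiSeparated π] [QuasiSeparated π'] (hk : Cart k π' π) :
    (Scheme.Modules.pullback k).obj (Omega.sheaf π) ⟶ Omega.sheaf π' :=
  (existsUnique_omega hk).choose

theorem omegaMap_d [QuasiSeparated π] [QuasiSeparated π'] (hk : Cart k π' π) (U : W.Opens)
    (s : Γ(W, U)) :
    secMap k (omegaMap hk) U ((OmegaSh.dOmega π).app U s) =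
      (OmegaSh.dOmega π').app (k ⁻¹ᵁ U) (k.app U s) :=
  (existsUnique_omega hk).choose_spec.1 U s

theorem omega_sec_ext [QuasiSeparated π] {N : W.Modules} (α β : Omega.sheaf π ⟶ N)
    (H : ∀ U s, α.app U ((OmegaSh.dOmega π).app U s) = β.app U ((OmegaSh.dOmega π).app U s))
    (U : W.Opens) (x : Γ(Omega.sheaf π, U)) : α.app U x = β.app U x := by
  rw [Groth.OmegaSheaf.hom_ext_of_isUniversal (Groth.OmegaSheaf.isUniversal_dOmega π) H]

/-- The map on sections is a morphism into the direct image. -/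
def adjHom (k : W' ⟶ W) {M : W.Modules} {M' : W'.Modules}
    (c : (Scheme.Modules.pullback k).obj M ⟶ M') : M ⟶ (Scheme.Modules.pushforward k).obj M' :=
  (Scheme.Modules.pullbackPushforwardAdjunction k).homEquiv _ _ c

theorem adjHom_app (k : W' ⟶ W) {M : W.Modules} {M' : W'.Modules}
    (c : (Scheme.Modules.pullback k).obj M ⟶ M') (U : W.Opens) (x : Γ(M, U)) :
    ((adjHom k c).app U x : Γ(M', k ⁻¹ᵁ U)) = secMap k c U x :=
  Groth.OmegaSheaf.homEquiv_pullback_app c U x

theorem isIso_omegaMap [QuasiSeparated π] [QuasiSeparated π'] (hk : Cart k π' π) :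
    IsIso (omegaMap hk) :=
  let ⟨_, hb⟩ := hk
  Groth.OmegaSheaf.isIso_of_isPullback hb (Groth.OmegaSheaf.isUniversal_dOmega π)
    (Groth.OmegaSheaf.isUniversal_dOmega π') (existsUnique_omega hk).choose_spec.1

end Omega

/-- The module of differentials as a polarisation. -/
def omegaPol : Pol.{u} QS where
  mod π h := haveI : QuasiSeparated π := h; Omega.sheaf π
  map {_ _ _ _ k π π'} h h' hk :=
    haveI : QuasiSeparated π := h; haveI : QuasiSeparated π' := h'; omegaMap hk
  isIso_map {_ _ _ _ k π π'} h h' hk :=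
    haveI : QuasiSeparated π := h; haveI : QuasiSeparated π' := h'; isIso_omegaMap hk
  map_id {W Q π} h hk U x := by
    haveI : QuasiSeparated π := h
    have key := omega_sec_ext (adjHom (𝟙 W) (omegaMap hk))
      ((Scheme.Modules.pushforwardId W).inv.app (Omega.sheaf π)) (fun V s => by
        refine (adjHom_app (𝟙 W) _ V _).trans ((omegaMap_d hk V s).trans ?_)
        rfl) U x
    exact (adjHom_app (𝟙 W) _ U x).symm.trans (key.trans rfl)
  map_comp {W Q W' Q' W'' Q'' k k' π π' π''} h h' h'' hk hk' hkk U x := by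
    haveI : QuasiSeparated π := h
    haveI : QuasiSeparated π' := h'
    haveI : QuasiSeparated π'' := h''
    have key := omega_sec_ext
      (adjHom k (omegaMap hk) ≫ (Scheme.Modules.pushforward k).map (adjHom k' (omegaMap hk')))
      (adjHom (k' ≫ k) (omegaMap hkk) ≫ (Scheme.Modules.pushforwardComp k' k).inv.app _)
      (fun V s => by
        change (adjHom k' (omegaMap hk')).app (k ⁻¹ᵁ V) ((adjHom k (omegaMap hk)).app V _) =
          ((Scheme.Modules.pushforwardComp k' k).inv.app _).app V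
            ((adjHom (k' ≫ k) (omegaMap hkk)).app V _)
        rw [adjHom_app, adjHom_app, adjHom_app, omegaMap_d, omegaMap_d, omegaMap_d]
        rfl) U x
    exact ((adjHom_app k' _ _ _).symm.trans (congrArg _ (adjHom_app k _ U x).symm)).trans
      (key.trans (adjHom_app (k' ≫ k) _ U x))

theorem secMap_pullUnit (k : W' ⟶ W) (U : W.Opens) (r : Γ(Coh.structureModule W, U)) :
    secMap k (Groth.PicAux.pullUnit k) U r =
      OmegaSh.strSect W' (k ⁻¹ᵁ U) (k.app U (OmegaSh.fnSect W U r)) :=
  congr(($(Groth.PicAux.unit_pullUnit k)).app U r)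

/-- The trivial polarisation. -/
def unitPol (P : MorphismProperty Scheme.{u}) : Pol P where
  mod {W _} _ _ := Coh.structureModule W
  map {_ _ _ _ k _ _} _ _ _ := Groth.PicAux.pullUnit k
  isIso_map {_ _ _ _ k _ _} _ _ _ := Groth.PicAux.isIso_pullUnit k
  map_id {W _ π} h hk U x := by
    rw [secMap_pullUnit]
    rfl
  map_comp {W Q W' Q' W'' Q'' k k' π π' π''} h h' h'' hk hk' hkk U x := by
    rw [secMap_pullUnit, secMap_pullUnit, secMap_pullUnit]
    rfl

theorem tensorModIso_tmulSec {L L' M M' : W.Modules} (e : L ≅ L') (f : M ≅ M') (U : W.Opens)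
    (a : Γ(L, U)) (b : Γ(M, U)) :
    (PicGrp.tensorModIso e f).hom.app U (tmulSec a b) = tmulSec (e.hom.app U a) (f.hom.app U b) := by
  have h := Groth.PicAux.tensorMap_app_tmulSec e.hom f.hom U a b
  rw [KoszTw.tensorMap_eq_sheafify] at h
  exact h

section Tensor

variable (A B : Pol P) {k : W' ⟶ W} {π : W ⟶ Q} {π' : W' ⟶ Q'} (h : P π) (h' : P π')
  (hk : Cart k π' π)

/-- The comparison on a tensor product. -/
def tensorMapPol : (Scheme.Modules.pullback k).obj (CohB1.tensorMod (A.mod π h) (B.mod π h)) ⟶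
    CohB1.tensorMod (A.mod π' h') (B.mod π' h') :=
  haveI := A.isIso_map h h' hk; haveI := B.isIso_map h h' hk
  ((Groth.PicAux.exists_pullback_tensorMod k (A.mod π h) (B.mod π h)).choose ≪≫
    PicGrp.tensorModIso (asIso (A.map h h' hk)) (asIso (B.map h h' hk))).hom

theorem secMap_tensor (U : W.Opens) (a : Γ(A.mod π h, U)) (b : Γ(B.mod π h, U)) :
    secMap k (tensorMapPol A B h h' hk) U (tmulSec a b) =
      tmulSec (secMap k (A.map h h' hk) U a) (secMap k (B.map h h' hk) U b) := by
  haveI := A.isIso_map h h' hk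
  haveI := B.isIso_map h h' hk
  exact (congrArg ((PicGrp.tensorModIso (asIso (A.map h h' hk)) (asIso (B.map h h' hk))).hom.app
      (k ⁻¹ᵁ U))
    ((Groth.PicAux.exists_pullback_tensorMod k (A.mod π h) (B.mod π h)).choose_spec U a b)).trans
    (tensorModIso_tmulSec _ _ _ _ _)

theorem isIso_tensorMapPol : IsIso (tensorMapPol A B h h' hk) := by
  unfold tensorMapPol; infer_instance

end Tensor

/-- Tensor product of polarisations. -/
def tensorPol (A B : Pol P) : Pol P where
  mod π h := CohB1.tensorMod (A.mod π h) (B.mod π h)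
  map h h' hk := tensorMapPol A B h h' hk
  isIso_map h h' hk := isIso_tensorMapPol A B h h' hk
  map_id {W Q π} h hk U x := by
    refine tensor_natural_ext (L := A.mod π h) (M := B.mod π h) (fun V => V) (fun _ _ h => h)
      (preimage_le_iSup (𝟙 W)) (fun V => secMap (𝟙 W) (tensorMapPol A B h h hk) V)
      (fun V => AddMonoidHom.id _) (fun V V' e y => secMap_res _ _ e y) (fun V V' e y => rfl)
      (fun V a b => ?_) U x
    exact (secMap_tensor A B h h hk V a b).trans
      (congrArg₂ tmulSec (A.map_id h hk V a) (B.map_id h hk V b))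
  map_comp {W Q W' Q' W'' Q'' k k' π π' π''} h h' h'' hk hk' hkk U x := by
    refine tensor_natural_ext (L := A.mod π h) (M := B.mod π h) (fun V => k' ⁻¹ᵁ (k ⁻¹ᵁ V))
      (fun _ _ h => k'.preimage_mono (k.preimage_mono h)) (preimage_le_iSup (k' ≫ k))
      (fun V => (secMap k' (tensorMapPol A B h' h'' hk') (k ⁻¹ᵁ V)).comp
        (secMap k (tensorMapPol A B h h' hk) V))
      (fun V => secMap (k' ≫ k) (tensorMapPol A B h h'' hkk) V)
      (fun V V' e y => ?_) (fun V V' e y => secMap_res _ _ e y) (fun V a b => ?_) U x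
    · simp only [AddMonoidHom.comp_apply, secMap_res]
    · refine ((congrArg (secMap k' (tensorMapPol A B h' h'' hk') (k ⁻¹ᵁ V))
        (secMap_tensor A B h h' hk V a b)).trans (secMap_tensor A B h' h'' hk' _ _ _)).trans ?_
      exact (congrArg₂ tmulSec (A.map_comp h h' h'' hk hk' hkk V a)
        (B.map_comp h h' h'' hk hk' hkk V b)).trans (secMap_tensor A B h h'' hkk V a b).symm

/-- Powers of a polarisation. -/
def powPol (A : Pol P) : ℕ → Pol P
  | 0 => unitPol P
  | n + 1 => tensorPol (powPol A n) A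

theorem powPol_mod (A : Pol P) {π : W ⟶ Q} (h : P π) :
    ∀ n, (powPol A n).mod π h = CohB1.tensorPow (A.mod π h) n
  | 0 => rfl
  | n + 1 => congrArg (CohB1.tensorMod · (A.mod π h)) (powPol_mod A h n)

end Groth.Curves1.PolDesc
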